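import Cfsg.Agent.EqLemmas

/-!
# Finite nilpotent groups: elements

* `commute_of_coprime`: elements of coprime orders commute.
* `commute_of_sylow`: if every Sylow subgroup is commutative, so is the group.
-/

set_option autoImplicit false

namespace Cfsg.Agent.NilGroup

variable {G : Type*} [Group G] [Finite G]

theorem commute_of_coprime (hnil : Group.IsNilpotent G) {x y : G}
    (hxy : (orderOf x).Coprime (orderOf y)) : Commute x y := by
  obtain ⟨e⟩ := (Group.isNilpotent_of_finite_tfae (G := G)).out 0 4 rfl rfl |>.mp hnil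
  have key : Commute (e.symm x) (e.symm y) := by
    funext q P
    haveI : Fact (q : ℕ).Prime := ⟨Nat.prime_of_mem_primeFactors q.2⟩
    have h1 : orderOf ((e.symm x) q P) ∣ orderOf x := by
      apply orderOf_dvd_of_pow_eq_one
      show (e.symm x ^ orderOf x) q P = 1
      rw [← map_pow, pow_orderOf_eq_one, map_one]
      rfl
    have h2 : orderOf ((e.symm y) q P) ∣ orderOf y := by
      apply orderOf_dvd_of_pow_eq_one
      show (e.symm y ^ orderOf y) q P = 1
      rw [← map_pow, pow_orderOf_eq_one, map_one]
      rfl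
    obtain ⟨a, ha⟩ := IsPGroup.iff_orderOf.1 P.isPGroup' ((e.symm x) q P)
    obtain ⟨b, hb⟩ := IsPGroup.iff_orderOf.1 P.isPGroup' ((e.symm y) q P)
    have hc := Nat.Coprime.coprime_dvd_left h1 (Nat.Coprime.coprime_dvd_right h2 hxy)
    show (e.symm x) q P * (e.symm y) q P = (e.symm y) q P * (e.symm x) q P
    rcases Nat.eq_zero_or_pos a with h | h
    · rw [h, pow_zero, orderOf_eq_one_iff] at ha
      simp [ha]
    rcases Nat.eq_zero_or_pos b with h' | h'
    · rw [h', pow_zero, orderOf_eq_one_iff] at hb
      simp [hb]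
    exfalso
    rw [ha, hb, Nat.coprime_pow_left_iff h, Nat.coprime_pow_right_iff h'] at hc
    exact (Nat.prime_of_mem_primeFactors q.2).ne_one ((Nat.coprime_self _).1 hc)
  exact key.of_map e.symm.injective

theorem commute_of_sylow (hnil : Group.IsNilpotent G)
    (h : ∀ p : ℕ, p.Prime → ∀ P : Sylow p G, ∀ x ∈ (P : Subgroup G), ∀ y ∈ (P : Subgroup G), Commute x y)
    (x y : G) : Commute x y := by
  obtain ⟨e⟩ := (Group.isNilpotent_of_finite_tfae (G := G)).out 0 4 rfl rfl |>.mp hnil
  have key : Commute (e.symm x) (e.symm y) := by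
    funext q P
    exact Subtype.ext (h q (Nat.prime_of_mem_primeFactors q.2) P _ ((e.symm x) q P).2 _ ((e.symm y) q P).2).eq
  exact key.of_map e.symm.injective

end Cfsg.Agent.NilGroup
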